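import Groth.Agent.FunFld.K665.ConormMap
import Groth.Agent.FunFld.K666.Ext
import Groth.Agent.FunFld.K663.AlgC
import Groth.Agent.FunFld.K664.Tau
import Groth.Agent.FunFld.K670.Base
import Groth.Agent.S10982
import Groth.Agent.S10972
import Groth.Agent.S11032
import Groth.Agent.S11000

/-! Castelnuovo's inequality for two subfields of index two of a function field over an
algebraically closed constant field. -/

set_option autoImplicit false

namespace Groth.Agent.K385.Castel

open FunFld K661.Place

universe u v

section Ext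

variable {k : Type u} {E K : Type v} [Field k] [Field E] [Field K] [Algebra k E] [Algebra k K]
  [Algebra E K] [IsScalarTower k E K] [FiniteDimensional E K]

theorem mem_L_conorm (hE : IsFunctionField k E) {D : Divisor k E} {x : E} (hx : x ∈ L D) :
    algebraMap E K x ∈ L (conorm K D) := by
  intro P
  obtain ⟨Q, hQ⟩ := exists_below (K := E) P
  have h := hx Q
  rw [val_algebraMap hQ, K665.ConormMap.conorm_apply hE D hQ]
  refine (pow_le_pow_left' h _).trans_eq ?_
  rw [← WithZero.exp_nsmul, nsmul_eq_mul, mul_comm]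

theorem mul_mem_L {D D' : Divisor k K} {x y : K} (hx : x ∈ L D) (hy : y ∈ L D') :
    x * y ∈ L (D + D') := by
  intro P
  rw [map_mul, Finsupp.add_apply, WithZero.exp_add]
  exact mul_le_mul' (hx P) (hy P)

theorem L_mono {D D' : Divisor k K} (h : D ≤ D') : L D ≤ L D' := by
  intro x hx P
  exact (hx P).trans (WithZero.exp_le_exp.2 (h P))

theorem conorm_nonneg (hE : IsFunctionField k E) {D : Divisor k E} (hD : 0 ≤ D) :
    0 ≤ conorm K D := by
  intro P
  obtain ⟨Q, hQ⟩ := exists_below (K := E) P
  rw [K665.ConormMap.conorm_apply hE D hQ]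
  exact mul_nonneg (hD Q) (Int.natCast_nonneg _)

/-- a space `L(D)` of dimension at least two contains a nonconstant function -/
theorem exists_nonconst {D : Divisor k K} (h : 2 ≤ ell D) :
    ∃ u ∈ L D, u ∉ Set.range (algebraMap k K) := by
  by_contra hcon
  push Not at hcon
  have h1 : L D ≤ Submodule.span k {(1 : K)} := by
    intro x hx
    obtain ⟨c, hc⟩ := hcon x hx
    rw [Submodule.mem_span_singleton]
    exact ⟨c, by rw [Algebra.smul_def, mul_one, hc]⟩
  have h2 : ell D ≤ 1 := by
    have h3 := Submodule.finrank_mono h1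
    rw [finrank_span_singleton one_ne_zero] at h3
    exact h3
  omega

/-- A divisor `A` on `K` with a function `u` in `L(A)` not coming from the subfield `E`. -/
theorem exists_not_mem_range [IsAlgClosed k] (hE : IsFunctionField k E) (hK : IsFunctionField k K)
    (h2 : 2 ≤ Module.finrank E K) (n : ℕ) (hn : genus k K + 1 ≤ n) :
    ∃ A : Divisor k K, 0 ≤ A ∧ A.deg = n ∧ ∃ u ∈ L A, u ∉ Set.range (algebraMap E K) := by
  classical
  have := K663.AlgC.infinite_place hE
  obtain ⟨S, hS⟩ := Infinite.exists_subset_card_eq (Place k E) n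
  have hover : ∀ Q : Place k E, ∃ P : Place k K, IsOver P Q := fun Q => K666.Ext.exists_over hE Q
  choose φ hφ using hover
  have hφi : Function.Injective φ := fun a b hab => by
    have h1 := hφ a
    rw [hab] at h1
    exact below_unique h1 (hφ b)
  let A : Divisor k K := ∑ P ∈ S.image φ, Finsupp.single P (1 : ℤ)
  have hA : ∀ P, A P = if P ∈ S.image φ then 1 else 0 := by
    intro P
    simp only [A, Finsupp.finsetSum_apply, Finsupp.single_apply]
    rw [Finset.sum_ite_eq']
  have hA0 : 0 ≤ A := by
    intro P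
    rw [hA]
    simp only [Finsupp.coe_zero, Pi.zero_apply]
    split_ifs <;> norm_num
  have hdeg : A.deg = n := by
    rw [K663.AlgC.deg_sum_single hK, Finset.card_image_of_injective _ hφi, hS]
  have hell : 2 ≤ ell A := by
    have h1 := (Groth.Agent.S10982.result k K hK).1 A
    rw [hdeg] at h1
    have h3 : ((genus k K + 1 : ℕ) : ℤ) ≤ n := by exact_mod_cast hn
    push_cast at h3
    omega
  obtain ⟨u, hu, hu0⟩ := exists_nonconst hell
  refine ⟨A, hA0, hdeg, u, hu, ?_⟩
  rintro ⟨w, rfl⟩
  have hw0 : w ∉ Set.range (algebraMap k E) := by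
    rintro ⟨c, rfl⟩
    exact hu0 ⟨c, IsScalarTower.algebraMap_apply k E K c⟩
  obtain ⟨-, Q, hQ⟩ := Groth.Agent.S10972.result k E hE w hw0
  -- every place over `Q` is in the support of `A`, with ramification index one
  have key : ∀ P : Place k K, IsOver P Q → P = φ Q ∧ ramIdx P Q = 1 := by
    intro P hP
    have h1 := hu P
    have h3 := ord_algebraMap hP w
    have hw : algebraMap E K w ≠ 0 := by
      intro h0
      apply hu0
      exact ⟨0, by rw [h0, map_zero]⟩
    rw [val_eq_exp P hw, WithZero.exp_le_exp, h3] at h1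
    have h4 := ramIdx_pos hP
    have h5 : (ramIdx P Q : ℤ) ≤ A P := by nlinarith
    rw [hA] at h5
    split_ifs at h5 with h6
    · obtain ⟨Q', -, rfl⟩ := Finset.mem_image.1 h6
      have := below_unique (hφ Q') hP
      subst this
      exact ⟨rfl, by omega⟩
    · omega
  have h5 := K666.Ext.fundamental (K' := K) hE Q
  have h6 := h5.2 {φ Q} (fun P => by
    rw [Finset.mem_singleton]
    exact ⟨fun h => h ▸ hφ Q, fun h => (key P h).1⟩)
  rw [Finset.sum_singleton, (key _ (hφ Q)).2, K663.AlgC.place_deg_one hE,
    K663.AlgC.place_deg_one hK] at h6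
  omega

/-- Counting: a function `u` outside the subfield `E` of index two, in `L(B)`, bounds the genus. -/
theorem genus_le_of_mem [IsAlgClosed k] (hE : IsFunctionField k E) (hK : IsFunctionField k K)
    (h2 : Module.finrank E K = 2) (B : Divisor k K) (hB : 0 ≤ B) (u : K) (hu : u ∈ L B)
    (huE : u ∉ Set.range (algebraMap E K)) :
    (genus k K : ℤ) ≤ 2 * genus k E + B.deg - 1 := by
  classical
  obtain ⟨-, N₁, hN₁⟩ := Groth.Agent.S10982.result k E hE
  obtain ⟨-, N₂, hN₂⟩ := Groth.Agent.S10982.result k K hK
  -- a divisor of large degree on `E`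
  have := K663.AlgC.infinite_place hE
  obtain ⟨P⟩ : Nonempty (Place k E) := inferInstance
  obtain ⟨n, hn⟩ : ∃ n : ℕ, N₁ ≤ n ∧ N₂ ≤ n := ⟨(max N₁ N₂).toNat,
    (le_max_left _ _).trans (Int.self_le_toNat _), (le_max_right _ _).trans (Int.self_le_toNat _)⟩
  let D : Divisor k E := Finsupp.single P (n : ℤ)
  have hD : D.deg = n := by
    rw [K663.AlgC.deg_single, K663.AlgC.place_deg_one hE, Nat.cast_one, mul_one]
  have hCd : (conorm K D).deg = 2 * n := by
    rw [(Groth.Agent.S11032.result k E K hE (Groth.Agent.S11000.result k E hE) D 0).1, h2, hD]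
    rfl
  have hBd : 0 ≤ B.deg := by
    rw [Divisor.deg]
    exact Finsupp.sum_nonneg fun P _ => mul_nonneg (hB P) (Int.natCast_nonneg _)
  have hdeg : (conorm K D + B).deg = 2 * n + B.deg := by
    rw [K660.Compare.deg_add, hCd]
  have e1 := hN₁ D (by rw [hD]; exact hn.1)
  have e2 := hN₂ (conorm K D + B) (by rw [hdeg]; linarith [hn.2])
  -- the injection
  let ψ : (L D × L D) →ₗ[k] L (conorm K D + B) :=
    { toFun := fun p => ⟨algebraMap E K p.1 + algebraMap E K p.2 * u, by
        refine Submodule.add_mem _ ?_ ?_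
        · exact L_mono (by simpa using hB) (mem_L_conorm hE p.1.2)
        · exact mul_mem_L (mem_L_conorm hE p.2.2) hu⟩
      map_add' := fun p q => Subtype.ext (by
        simp only [Prod.fst_add, Prod.snd_add, Submodule.coe_add, map_add]
        ring)
      map_smul' := fun c p => Subtype.ext (by
        simp only [Prod.smul_fst, Prod.smul_snd, Submodule.coe_smul, RingHom.id_apply,
          Algebra.smul_def, map_mul, ← IsScalarTower.algebraMap_apply]
        ring) }
  have hψ : Function.Injective ψ := by
    rw [← LinearMap.ker_eq_bot, LinearMap.ker_eq_bot']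
    rintro ⟨a, b⟩ hab
    have h3 : algebraMap E K a + algebraMap E K b * u = 0 := congrArg Subtype.val hab
    have hb : (b : E) = 0 := by
      by_contra hb
      apply huE
      refine ⟨-(a : E) / b, ?_⟩
      have hb' : algebraMap E K b ≠ 0 := by simpa using hb
      rw [map_div₀, map_neg, div_eq_iff hb']
      linear_combination -h3
    have ha : (a : E) = 0 := by
      rw [hb, map_zero, zero_mul, add_zero] at h3
      simpa using h3
    exact Prod.ext (Subtype.ext ha) (Subtype.ext hb)
  have hfin : ∀ (F : Type v) [Field F] [Algebra k F] (hF : IsFunctionField k F) (C : Divisor k F),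
      Module.Finite k (L C) := fun F _ _ hF C => K670.Base.finiteDimensional_L hF C
  have := hfin E hE D
  have := hfin K hK (conorm K D + B)
  have h4 := LinearMap.finrank_le_finrank_of_injective hψ
  rw [Module.finrank_prod] at h4
  change ell D + ell D ≤ ell (conorm K D + B) at h4
  rw [hD] at e1
  rw [hdeg] at e2
  have h5 : (ell D : ℤ) + ell D ≤ ell (conorm K D + B) := by exact_mod_cast h4
  linarith

end Ext

section Main

variable {k : Type u} {K : Type v} [Field k] [Field K] [Algebra k K]

theorem exists_transcendental (hK : IsFunctionField k K) (E : IntermediateField k K)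
    [Algebra.IsAlgebraic E K] : ∃ t : K, Transcendental k t ∧ t ∈ E := by
  by_contra hcon
  push Not at hcon
  obtain ⟨⟨x, hx, -⟩, -⟩ := hK
  apply hx
  have h1 : Algebra.IsAlgebraic k E := ⟨fun y => by
    by_contra hy
    exact hcon (y : K) (fun h => hy ((isAlgebraic_algebraMap_iff (A := K) E.val.injective).1 h)) y.2⟩
  have := Algebra.IsAlgebraic.trans k E K
  exact Algebra.IsAlgebraic.isAlgebraic x

theorem isFunctionField_of_finite (hK : IsFunctionField k K) (E : IntermediateField k K)
    [Algebra.IsAlgebraic E K] : IsFunctionField k E := by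
  obtain ⟨t, ht, htE⟩ := exists_transcendental hK E
  exact K664.isFunctionField_intermediate hK E ht htE

theorem finrank_fieldRange {E : Type v} [Field E] [Algebra k E] [Algebra E K]
    [IsScalarTower k E K] :
    Module.finrank (IsScalarTower.toAlgHom k E K).fieldRange K = Module.finrank E K := by
  symm
  refine Algebra.finrank_eq_of_equiv_equiv
    (AlgEquiv.ofInjectiveField (IsScalarTower.toAlgHom k E K)).toRingEquiv (RingEquiv.refl K) ?_
  ext x
  rfl

/-- **Castelnuovo's inequality** for two different subfields of index two. -/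
theorem genus_le [IsAlgClosed k] (hK : IsFunctionField k K) {E₁ E₂ : Type v} [Field E₁] [Field E₂]
    [Algebra k E₁] [Algebra k E₂] [Algebra E₁ K] [Algebra E₂ K] [IsScalarTower k E₁ K]
    [IsScalarTower k E₂ K] (hE₁ : IsFunctionField k E₁) (hE₂ : IsFunctionField k E₂)
    (h₁ : Module.finrank E₁ K = 2) (h₂ : Module.finrank E₂ K = 2)
    (hne : Set.range (algebraMap E₁ K) ≠ Set.range (algebraMap E₂ K)) :
    genus k K ≤ 2 * genus k E₁ + 2 * genus k E₂ + 1 := by
  have f₁ : FiniteDimensional E₁ K := Module.finite_of_finrank_pos (by omega)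
  have f₂ : FiniteDimensional E₂ K := Module.finite_of_finrank_pos (by omega)
  let φ₁ := IsScalarTower.toAlgHom k E₁ K
  let φ₂ := IsScalarTower.toAlgHom k E₂ K
  obtain ⟨A, hA0, hAd, u, hu, huE⟩ : ∃ A : Divisor k E₂, 0 ≤ A ∧ A.deg = (genus k E₂ + 1 : ℕ) ∧
      ∃ u ∈ L A, algebraMap E₂ K u ∉ Set.range (algebraMap E₁ K) := by
    by_cases ht : ∃ t : E₂, Transcendental k t ∧ t ∈ φ₁.fieldRange.comap φ₂
    · obtain ⟨t, ht, htE⟩ := ht
      have hF := K664.isFunctionField_intermediate hE₂ (φ₁.fieldRange.comap φ₂) ht htE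
      have : FiniteDimensional (φ₁.fieldRange.comap φ₂) E₂ :=
        K664.finite_over_intermediate (K660.Places.isGen_of_transcendental hE₂ ht) _ htE
      obtain ⟨A, hA0, hAd, u, hu, huE⟩ := exists_not_mem_range hF hE₂ (by
        have h3 : 0 < Module.finrank (φ₁.fieldRange.comap φ₂) E₂ := Module.finrank_pos
        have h4 : Module.finrank (φ₁.fieldRange.comap φ₂) E₂ ≠ 1 := by
          intro h5
          rw [IntermediateField.finrank_eq_one_iff_eq_top] at h5
          apply hne
          have h6 : φ₂.fieldRange ≤ φ₁.fieldRange := by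
            rintro _ ⟨x, rfl⟩
            have h7 : x ∈ φ₁.fieldRange.comap φ₂ := by rw [h5]; trivial
            exact h7
          have h8 : FiniteDimensional φ₂.fieldRange K := Module.finite_of_finrank_pos (by
            rw [finrank_fieldRange]; omega)
          have h7 : φ₂.fieldRange = φ₁.fieldRange :=
            IntermediateField.eq_of_le_of_finrank_eq' h6
              (by rw [finrank_fieldRange, finrank_fieldRange, h₁, h₂])
          exact congrArg (fun S : IntermediateField k K => (S : Set K)) h7.symm
        omega) (genus k E₂ + 1) le_rfl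
      refine ⟨A, hA0, hAd, u, hu, fun h => huE ⟨⟨u, ?_⟩, rfl⟩⟩
      obtain ⟨x, hx⟩ := h
      exact ⟨x, hx⟩
    · have := K663.AlgC.infinite_place hE₂
      obtain ⟨P⟩ : Nonempty (Place k E₂) := inferInstance
      have hdeg : Divisor.deg (Finsupp.single P ((genus k E₂ + 1 : ℕ) : ℤ)) = (genus k E₂ + 1 : ℕ) := by
        rw [K663.AlgC.deg_single, K663.AlgC.place_deg_one hE₂, Nat.cast_one, mul_one]
      have hell : 2 ≤ ell (Finsupp.single P ((genus k E₂ + 1 : ℕ) : ℤ) : Divisor k E₂) := by
        have h1 := (Groth.Agent.S10982.result k E₂ hE₂).1 (Finsupp.single P ((genus k E₂ + 1 : ℕ) : ℤ))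
        rw [hdeg] at h1
        push_cast at h1 ⊢
        omega
      obtain ⟨u, hu, hu0⟩ := exists_nonconst hell
      refine ⟨_, Finsupp.single_nonneg.2 (by positivity), hdeg, u, hu, fun h => hu0 (hE₂.2 u ?_)⟩
      by_contra h1
      obtain ⟨x, hx⟩ := h
      exact ht ⟨u, h1, x, hx⟩
  have hB := genus_le_of_mem hE₁ hK h₁ (conorm K A) (conorm_nonneg hE₂ hA0) (algebraMap E₂ K u)
    (mem_L_conorm hE₂ hu) huE
  rw [(Groth.Agent.S11032.result k E₂ K hE₂ (Groth.Agent.S11000.result k E₂ hE₂) A 0).1, h₂, hAd] at hB
  push_cast at hB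
  omega

end Main

end Groth.Agent.K385.Castel
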