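import Groth.Agent.MiscA.CurveH1Place
import Groth.Agent.MiscA.WCSep
import Groth.Agent.FunFld.K663.Bridge
import Groth.Agent.Unram.K147.AffPull
import Groth.Prelude.Def_CurvBase
import Mathlib.AlgebraicGeometry.Morphisms.FlatRank

/-! Function fields of curves and of finite flat morphisms: the degree of the extension, the genus. -/

set_option autoImplicit false
set_option linter.style.haveILetI false
set_option linter.unusedSectionVars false
universe u

open CategoryTheory CategoryTheory.Limits AlgebraicGeometry TopologicalSpace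

namespace Groth.Agent.K385.CurveFF

open Groth.Agent.MiscA.CurvePlaces

/-- the `k`-algebra structure of the function field. -/
noncomputable abbrev algFF {k : Type u} [Field k] {X : Scheme.{u}} [IsIntegral X]
    (p : X ⟶ Spec (CommRingCat.of k)) : Algebra k X.functionField :=
  (Spec.preimage (genericPt X ≫ p)).hom.toAlgebra

theorem algFF_spec {k : Type u} [Field k] {X : Scheme.{u}} [IsIntegral X]
    (p : X ⟶ Spec (CommRingCat.of k)) :
    letI := algFF p
    genericPt X ≫ p = Spec.map (CommRingCat.ofHom (algebraMap k X.functionField)) :=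
  (Spec.map_preimage _).symm

section Genus

variable {k : Type u} [Field k] [IsAlgClosed k] {X : Scheme.{u}} [IsIntegral X]
    (p : X ⟶ Spec (CommRingCat.of k)) [IsProper p] [Smooth p] (hdim : topologicalKrullDim X = 1)

include hdim in
theorem isFunctionField : letI := algFF p; FunFld.IsFunctionField k X.functionField := by
  letI := algFF p
  obtain ⟨t, ht⟩ := Groth.Agent.MiscA.WCSep.exists_isSep p hdim (algFF_spec p)
  refine ⟨⟨t, ht.tr, ht.fin⟩, fun y hy => ?_⟩
  have h1 := IsAlgClosed.degree_eq_one_of_irreducible k (minpoly.irreducible hy.isIntegral)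
  exact minpoly.mem_range_of_degree_eq_one k y h1

include hdim in
theorem genus_eq : letI := algFF p; letI : X.Over (Spec (CommRingCat.of k)) := ⟨p⟩
    FunFld.genus k X.functionField = Curv2.genus k X := by
  letI := algFF p
  letI : X.Over (Spec (CommRingCat.of k)) := ⟨p⟩
  have h := Groth.Agent.MiscA.WCSep.exists_isSep p hdim (algFF_spec p)
  rw [K663.Bridge.genus_eq h (isFunctionField p hdim).2, K663.Bridge.i_zero_eq]
  have : IsProper (X ↘ Spec (CommRingCat.of k)) := ‹IsProper p›
  have : Smooth (X ↘ Spec (CommRingCat.of k)) := ‹Smooth p›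
  exact (Groth.Agent.MiscA.CurveH1.i_zero_eq_finrank (algFF_spec p) hdim h).2

end Genus

section Map

variable {X P : Scheme.{u}} [IsIntegral X] [IsIntegral P] (f : X ⟶ P)

theorem map_genericPoint [Surjective f] : f (genericPoint X) = genericPoint P := by
  have h1 := (genericPoint_spec X).image f.continuous
  have h2 : closure (f '' Set.univ) = ⊤ := by
    rw [Set.image_univ, f.surjective.range_eq, closure_univ]; rfl
  have h3 : IsGenericPoint (f (genericPoint X)) (⊤ : Set P) := by
    rw [← h2]; exact h1
  exact h3.eq (genericPoint_spec P)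

variable (h : f (genericPoint X) = genericPoint P)

/-- The map of function fields of a dominant morphism. -/
noncomputable def ffm : P.functionField ⟶ X.functionField :=
  P.presheaf.stalkSpecializes (specializes_of_eq h) ≫ f.stalkMap (genericPoint X)

theorem spec_ffm : Spec.map (ffm f h) ≫ genericPt P = genericPt X ≫ f := by
  unfold ffm genericPt
  rw [Spec.map_comp, Category.assoc, Scheme.SpecMap_stalkSpecializes_fromSpecStalk,
    Scheme.SpecMap_stalkMap_fromSpecStalk]

/-- The degree of the function field extension. -/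
theorem finrank_functionField [IsFinite f] [Flat f] (n : ℕ) (hr : ∀ y : P, Scheme.Hom.finrank f y = n) :
    letI := (ffm f h).hom.toAlgebra
    Module.finrank P.functionField X.functionField = n := by
  letI := (ffm f h).hom.toAlgebra
  obtain ⟨U, hU, hxU, -⟩ := exists_isAffineOpen_mem_and_subset (X := P) (U := ⊤)
    (x := genericPoint P) trivial
  have hxV : genericPoint X ∈ f ⁻¹ᵁ U := by
    change f (genericPoint X) ∈ U
    rw [h]; exact hxU
  have hU0 : Nonempty U := ⟨⟨_, hxU⟩⟩
  have hV0 : Nonempty (f ⁻¹ᵁ U : X.Opens) := ⟨⟨_, hxV⟩⟩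
  have hV : IsAffineOpen (f ⁻¹ᵁ U) := hU.preimage f
  have i1 := functionField_isFractionRing_of_isAffineOpen P U hU
  have i2 := functionField_isFractionRing_of_isAffineOpen X (f ⁻¹ᵁ U) hV
  letI : Algebra Γ(P, U) Γ(X, f ⁻¹ᵁ U) := (f.app U).hom.toAlgebra
  letI : Algebra Γ(P, U) X.functionField :=
    ((algebraMap Γ(X, f ⁻¹ᵁ U) X.functionField).comp (algebraMap Γ(P, U) Γ(X, f ⁻¹ᵁ U))).toAlgebra
  have t1 : IsScalarTower Γ(P, U) Γ(X, f ⁻¹ᵁ U) X.functionField := IsScalarTower.of_algebraMap_eq' rfl
  have t2 : IsScalarTower Γ(P, U) P.functionField X.functionField := by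
    refine IsScalarTower.of_algebraMap_eq' ?_
    have h1 : f.app U ≫ X.presheaf.germ (f ⁻¹ᵁ U) (genericPoint X) hxV =
        P.presheaf.germ U (genericPoint P) hxU ≫ ffm f h := by
      unfold ffm
      rw [TopCat.Presheaf.germ_stalkSpecializes_assoc, Scheme.Hom.germ_stalkMap]
    exact congrArg CommRingCat.Hom.hom h1
  rw [IsFractionRing.finrank_eq Γ(P, U) P.functionField Γ(X, f ⁻¹ᵁ U) X.functionField]
  have hsq := K147.AffPull.isPullback_fromSpec f hU
  have hfin : Module.Finite Γ(P, U) Γ(X, f ⁻¹ᵁ U) := f.finite_app U hU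
  have hflat : Module.Flat Γ(P, U) Γ(X, f ⁻¹ᵁ U) := by
    have : Flat (Spec.map (f.app U)) := MorphismProperty.of_isPullback hsq ‹Flat f›
    rw [Flat.SpecMap_iff] at this
    exact this
  have e1 := Scheme.Hom.finrank_of_isPullback _ _ _ _ hsq (genericPoint (Spec Γ(P, U)))
  rw [hr] at e1
  have e2 := Scheme.Hom.finrank_SpecMap_algebraMap Γ(P, U) Γ(X, f ⁻¹ᵁ U) (genericPoint (Spec Γ(P, U)))
  let z : PrimeSpectrum Γ(P, U) := genericPoint (Spec Γ(P, U))
  rw [← Ideal.finrank_fiber_eq_finrank (M := Γ(X, f ⁻¹ᵁ U)) z.asIdeal,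
    Ideal.finrank_fiber_eq_rankAtStalk]
  exact e2.symm.trans e1

end Map

end Groth.Agent.K385.CurveFF
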