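import Groth.Agent.Curves.K385.Castel
import Groth.Agent.Curves.K385.CurveFF
import Groth.Agent.Curves.K322.CurveIso
import Groth.Agent.Picfga.CurvePts

/-! Uniqueness of double covers of curves of small genus, over an algebraically closed field. -/

set_option autoImplicit false
set_option linter.style.haveILetI false
universe u

open CategoryTheory CategoryTheory.Limits AlgebraicGeometry TopologicalSpace

namespace Groth.Agent.K385.DblUniq

open Groth.Agent.MiscA.CurvePlaces Groth.Agent.K385.CurveFF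

/-- If the function fields of two curves have the same image in the function field of a third one,
dominating both, then the curves are isomorphic compatibly. -/
theorem exists_iso_of_range {S X P₁ P₂ : Scheme.{u}} [IsIntegral X] [IsIntegral P₁] [IsIntegral P₂]
    (p : X ⟶ S) (q₁ : P₁ ⟶ S) (q₂ : P₂ ⟶ S) [IsProper q₁] [IsProper q₂]
    (hv₁ : ∀ y : P₁, ValuationRing (P₁.presheaf.stalk y))
    (hv₂ : ∀ y : P₂, ValuationRing (P₂.presheaf.stalk y))
    (f₁ : X ⟶ P₁) (hf₁ : f₁ ≫ q₁ = p) (h₁ : f₁ (genericPoint X) = genericPoint P₁)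
    (f₂ : X ⟶ P₂) (hf₂ : f₂ ≫ q₂ = p) (h₂ : f₂ (genericPoint X) = genericPoint P₂)
    (hr : Set.range (ffm f₁ h₁).hom = Set.range (ffm f₂ h₂).hom)
    (hS : ∀ a b : Spec P₁.functionField ⟶ S, Spec.map (ffm f₁ h₁) ≫ a = Spec.map (ffm f₁ h₁) ≫ b → a = b) :
    ∃ e : P₁ ≅ P₂, e.hom ≫ q₂ = q₁ ∧ f₁ ≫ e.hom = f₂ := by
  -- the isomorphism of function fields
  have inj₁ : Function.Injective (ffm f₁ h₁).hom := RingHom.injective _
  have inj₂ : Function.Injective (ffm f₂ h₂).hom := RingHom.injective _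
  have hr' : (ffm f₁ h₁).hom.range = (ffm f₂ h₂).hom.range := by
    apply SetLike.coe_injective
    rw [RingHom.coe_range, RingHom.coe_range]
    exact hr
  let ε₁ : P₁.functionField ≃+* (ffm f₁ h₁).hom.range :=
    RingEquiv.ofBijective (ffm f₁ h₁).hom.rangeRestrict
      ⟨fun a b hab => inj₁ (congrArg Subtype.val hab), RingHom.rangeRestrict_surjective _⟩
  let ε₂ : P₂.functionField ≃+* (ffm f₂ h₂).hom.range :=
    RingEquiv.ofBijective (ffm f₂ h₂).hom.rangeRestrict
      ⟨fun a b hab => inj₂ (congrArg Subtype.val hab), RingHom.rangeRestrict_surjective _⟩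
  let ε : P₂.functionField ≃+* P₁.functionField :=
    (ε₂.trans (RingEquiv.subringCongr hr'.symm)).trans ε₁.symm
  have hε : ∀ x, (ffm f₁ h₁).hom (ε x) = (ffm f₂ h₂).hom x := by
    intro x
    have h3 : ε₁ (ε x) = RingEquiv.subringCongr hr'.symm (ε₂ x) := by
      change ε₁ (ε₁.symm _) = _
      rw [ε₁.apply_symm_apply]
      rfl
    exact congrArg Subtype.val h3
  have hε' : ε.toCommRingCatIso.hom ≫ ffm f₁ h₁ = ffm f₂ h₂ := by
    ext x
    exact hε x
  let e : Spec P₁.functionField ≅ Spec P₂.functionField := Scheme.Spec.mapIso ε.toCommRingCatIso.op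
  have he0 : e.hom = Spec.map ε.toCommRingCatIso.hom := rfl
  have he1 : Spec.map (ffm f₁ h₁) ≫ e.hom = Spec.map (ffm f₂ h₂) := by
    rw [he0, ← Spec.map_comp, hε']
  have he : e.hom ≫ P₂.fromSpecStalk (genericPoint P₂) ≫ q₂ =
      P₁.fromSpecStalk (genericPoint P₁) ≫ q₁ := by
    apply hS
    rw [reassoc_of% he1]
    have s1 := spec_ffm f₁ h₁
    have s2 := spec_ffm f₂ h₂
    unfold genericPt at s1 s2
    rw [reassoc_of% s1, reassoc_of% s2, hf₁, hf₂]
  obtain ⟨i, hi, hi'⟩ := K322.CurveIso.exists_iso_of_functionField q₁ q₂ hv₁ hv₂ e he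
  refine ⟨i, hi, ?_⟩
  apply Groth.Agent.Dix.EllScheme.hom_ext_generic p q₂ _ _ (by rw [Category.assoc, hi, hf₁]) hf₂
  have s1 := spec_ffm f₁ h₁
  have s2 := spec_ffm f₂ h₂
  unfold genericPt at s1 s2
  rw [← s2, ← reassoc_of% s1, hi', ← reassoc_of% he1]

theorem surjective_of_finrank {X P : Scheme.{u}} (f : X ⟶ P) [IsFinite f] [Flat f] (n : ℕ) (hn : 1 ≤ n)
    (hr : ∀ y : P, Scheme.Hom.finrank f y = n) : Surjective f := by
  rw [← Scheme.Hom.one_le_finrank_iff_surjective]
  intro y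
  rw [hr]
  exact hn

/-- **Uniqueness of double covers** over an algebraically closed field. -/
theorem exists_iso {k : Type u} [Field k] [IsAlgClosed k] {X P₁ P₂ : Scheme.{u}}
    [IsIntegral X] [IsIntegral P₁] [IsIntegral P₂] (p : X ⟶ Spec (CommRingCat.of k))
    (q₁ : P₁ ⟶ Spec (CommRingCat.of k)) (q₂ : P₂ ⟶ Spec (CommRingCat.of k))
    [IsProper p] [Smooth p] [IsProper q₁] [Smooth q₁] [IsProper q₂] [Smooth q₂]
    (hd : topologicalKrullDim X = 1) (hd₁ : topologicalKrullDim P₁ = 1)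
    (hd₂ : topologicalKrullDim P₂ = 1)
    (hg : 2 * @Curv2.genus k _ P₁ ⟨q₁⟩ + 2 * @Curv2.genus k _ P₂ ⟨q₂⟩ + 1 < @Curv2.genus k _ X ⟨p⟩)
    (f₁ : X ⟶ P₁) (hf₁ : f₁ ≫ q₁ = p) [IsFinite f₁] [Flat f₁]
    (hr₁ : ∀ y : P₁, Scheme.Hom.finrank f₁ y = 2)
    (f₂ : X ⟶ P₂) (hf₂ : f₂ ≫ q₂ = p) [IsFinite f₂] [Flat f₂]
    (hr₂ : ∀ y : P₂, Scheme.Hom.finrank f₂ y = 2) :
    ∃ e : P₁ ≅ P₂, e.hom ≫ q₂ = q₁ ∧ f₁ ≫ e.hom = f₂ := by
  have := surjective_of_finrank f₁ 2 one_le_two hr₁
  have := surjective_of_finrank f₂ 2 one_le_two hr₂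
  have h₁ := map_genericPoint f₁
  have h₂ := map_genericPoint f₂
  letI := algFF p
  letI := algFF q₁
  letI := algFF q₂
  letI := (ffm f₁ h₁).hom.toAlgebra
  letI := (ffm f₂ h₂).hom.toAlgebra
  have t₁ : IsScalarTower k P₁.functionField X.functionField := by
    refine IsScalarTower.of_algebraMap_eq' ?_
    have h3 : CommRingCat.ofHom (algebraMap k X.functionField) =
        CommRingCat.ofHom (algebraMap k P₁.functionField) ≫ ffm f₁ h₁ := by
      apply Spec.map_injective
      rw [Spec.map_comp, ← algFF_spec, ← algFF_spec, reassoc_of% spec_ffm f₁ h₁, hf₁]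
    exact congrArg CommRingCat.Hom.hom h3
  have t₂ : IsScalarTower k P₂.functionField X.functionField := by
    refine IsScalarTower.of_algebraMap_eq' ?_
    have h3 : CommRingCat.ofHom (algebraMap k X.functionField) =
        CommRingCat.ofHom (algebraMap k P₂.functionField) ≫ ffm f₂ h₂ := by
      apply Spec.map_injective
      rw [Spec.map_comp, ← algFF_spec, ← algFF_spec, reassoc_of% spec_ffm f₂ h₂, hf₂]
    exact congrArg CommRingCat.Hom.hom h3
  have hr : Set.range (algebraMap P₁.functionField X.functionField) =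
      Set.range (algebraMap P₂.functionField X.functionField) := by
    by_contra hne
    have h3 := Castel.genus_le (isFunctionField p hd) (isFunctionField q₁ hd₁)
      (isFunctionField q₂ hd₂) (finrank_functionField f₁ h₁ 2 hr₁)
      (finrank_functionField f₂ h₂ 2 hr₂) hne
    rw [genus_eq p hd, genus_eq q₁ hd₁, genus_eq q₂ hd₂] at h3
    omega
  refine exists_iso_of_range p q₁ q₂
    (Groth.Agent.Picfga.CurvePts.valuationRing_stalk q₁ hd₁.le)
    (Groth.Agent.Picfga.CurvePts.valuationRing_stalk q₂ hd₂.le) f₁ hf₁ h₁ f₂ hf₂ h₂ hr ?_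
  intro a b hab
  rw [← Spec.map_preimage a, ← Spec.map_preimage b, ← Spec.map_comp, ← Spec.map_comp] at hab
  have h3 := Spec.map_injective hab
  rw [← Spec.map_preimage a, ← Spec.map_preimage b]
  congr 1
  ext x
  apply (ffm f₁ h₁).hom.injective
  exact DFunLike.congr_fun (congrArg CommRingCat.Hom.hom h3) x

end Groth.Agent.K385.DblUniq
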