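import Groth.Agent.Curves.K385.Castel
import Groth.Agent.FunFld.K669.DivDiff
import Groth.Agent.FunFld.K669.Expansion
import Groth.Agent.FunFld.K667.DiffOrd
import Groth.Agent.FunFld.K660.Weil
import Groth.Agent.FunFld.K670.Base
import Groth.Agent.S12581

/-! Extensions of a rational function field (characteristic zero, algebraically closed constants)
ramified over at most two places: the genus is zero and the two places are totally ramified. -/

set_option autoImplicit false

namespace Groth.Agent.K385.TwoPts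

open FunFld K661.Place WithZero

universe v

variable {k : Type v} {E K : Type v} [Field k] [Field E] [Field K] [Algebra k E] [Algebra k K]
  [Algebra E K] [IsScalarTower k E K] [FiniteDimensional E K] [IsAlgClosed k] [CharZero k]

omit [CharZero k] in
theorem eq_zero_of_nonneg (hE : IsFunctionField k E) (D : Divisor k E) (h0 : 0 ≤ D)
    (hd : D.deg = 0) : D = 0 := by
  ext P
  rw [Finsupp.coe_zero, Pi.zero_apply]
  by_contra hne
  have hP : P ∈ D.support := Finsupp.mem_support_iff.2 hne
  have h1 : D P * (P.deg : ℤ) ≤ D.deg := by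
    unfold Divisor.deg Finsupp.sum
    exact Finset.single_le_sum (f := fun P => D P * (P.deg : ℤ))
      (fun i _ => mul_nonneg (h0 i) (Int.natCast_nonneg _)) hP
  rw [hd, K663.AlgC.place_deg_one hE, Nat.cast_one, mul_one] at h1
  have h2 := h0 P
  rw [Finsupp.coe_zero, Pi.zero_apply] at h2
  omega

omit [CharZero k] in
/-- In genus zero there is a function with divisor `P₁ - P₂`. -/
theorem exists_div_eq (hE : IsFunctionField k E) (hg : genus k E = 0) (P₁ P₂ : Place k E) :
    ∃ t : E, t ≠ 0 ∧ div k t = Finsupp.single P₁ 1 - Finsupp.single P₂ 1 := by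
  classical
  let D : Divisor k E := Finsupp.single P₂ 1 - Finsupp.single P₁ 1
  have hDdeg : D.deg = 0 := by
    rw [K660.Compare.deg_sub, K663.AlgC.deg_single, K663.AlgC.deg_single,
      K663.AlgC.place_deg_one hE, K663.AlgC.place_deg_one hE]
    ring
  have hell : 1 ≤ ell D := by
    have h1 := (Groth.Agent.S10982.result k E hE).1 D
    rw [hDdeg, hg] at h1
    push_cast at h1
    omega
  have hne : L D ≠ ⊥ := by
    intro h
    unfold ell at hell
    rw [h, finrank_bot] at hell
    omega
  obtain ⟨t, ht, ht0⟩ := Submodule.exists_mem_ne_zero_of_ne_bot hne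
  refine ⟨t, ht0, ?_⟩
  have h3 : div k t + D = 0 := by
    apply eq_zero_of_nonneg hE
    · intro P
      rw [Finsupp.coe_zero, Pi.zero_apply, Finsupp.add_apply, K669.MapDiv.div_apply hE]
      have h4 := ht P
      rw [val_eq_exp P ht0, WithZero.exp_le_exp] at h4
      omega
    · rw [K660.Compare.deg_add, hDdeg, K670.Base.deg_div hE, add_zero]
  rw [eq_neg_of_add_eq_zero_left h3, neg_sub]

omit [CharZero k] in
/-- A function with a single simple pole separates: every value is taken exactly once. -/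
theorem ord_sub_eq_one (hE : IsFunctionField k E) {P₁ P₂ : Place k E} (h12 : P₁ ≠ P₂) {t : E}
    (ht0 : t ≠ 0) (ht : div k t = Finsupp.single P₁ 1 - Finsupp.single P₂ 1) (P : Place k E)
    (c : k) (hP : P.1 (t - algebraMap k E c) < 1) : P.1 (t - algebraMap k E c) = exp (-1 : ℤ) := by
  classical
  set s := t - algebraMap k E c with hs
  have hord : ∀ Q, Q.ord t = (Finsupp.single P₁ (1 : ℤ) - Finsupp.single P₂ 1 : Divisor k E) Q := by
    intro Q
    rw [← ht, K669.MapDiv.div_apply hE]
  have hs0 : s ≠ 0 := by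
    intro h0
    have h1 : t = algebraMap k E c := by rw [hs] at h0; exact sub_eq_zero.1 h0
    have hc : c ≠ 0 := by rintro rfl; exact ht0 (by rw [h1, map_zero])
    have h2 := hord P₁
    rw [Finsupp.sub_apply, Finsupp.single_eq_same, Finsupp.single_eq_of_ne h12, Place.ord, h1,
      val_const P₁ hc, WithZero.log_one] at h2
    omega
  have h2 : ∀ Q, 0 ≤ (div k s + Finsupp.single P₂ (1 : ℤ) : Divisor k E) Q := by
    intro Q
    rw [Finsupp.add_apply, K669.MapDiv.div_apply hE]
    have h3 : Q.1 s ≤ max (Q.1 t) (Q.1 (algebraMap k E c)) := Q.1.map_sub _ _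
    have h4 := val_const_le Q c
    by_cases hQ : Q = P₂
    · subst hQ
      rw [Finsupp.single_eq_same]
      have h5 : Q.1 t = exp (1 : ℤ) := by
        rw [val_eq_exp Q ht0, hord, Finsupp.sub_apply, Finsupp.single_eq_same,
          Finsupp.single_eq_of_ne h12.symm]
        rfl
      have h6 : Q.1 s ≤ exp (1 : ℤ) := by
        refine h3.trans (max_le h5.le (h4.trans ?_))
        rw [← exp_zero, exp_le_exp]; omega
      rw [val_eq_exp Q hs0, exp_le_exp] at h6
      omega
    · rw [Finsupp.single_eq_of_ne hQ, add_zero]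
      have h5 : Q.1 t ≤ 1 := by
        rw [val_eq_exp Q ht0, hord, Finsupp.sub_apply, Finsupp.single_eq_of_ne hQ, sub_zero,
          ← exp_zero, exp_le_exp]
        by_cases hQ1 : Q = P₁
        · subst hQ1; rw [Finsupp.single_eq_same]; omega
        · rw [Finsupp.single_eq_of_ne hQ1]; omega
      have h6 : Q.1 s ≤ 1 := h3.trans (max_le h5 h4)
      rw [val_eq_exp Q hs0, ← exp_zero, exp_le_exp] at h6
      omega
  have h7 : (div k s + Finsupp.single P₂ (1 : ℤ) : Divisor k E).deg = 1 := by
    rw [K660.Compare.deg_add, K670.Base.deg_div hE, K663.AlgC.deg_single,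
      K663.AlgC.place_deg_one hE]
    norm_num
  have hPs : 1 ≤ P.ord s := by
    rw [val_eq_exp P hs0, ← exp_zero, exp_lt_exp] at hP
    omega
  -- the coefficient at `P` is at most the degree
  have h8 : (div k s + Finsupp.single P₂ (1 : ℤ) : Divisor k E) P ≤ 1 := by
    refine le_trans ?_ h7.le
    set D := (div k s + Finsupp.single P₂ (1 : ℤ) : Divisor k E)
    by_cases hmem : P ∈ D.support
    · have h1 : D P * (P.deg : ℤ) ≤ D.deg := by
        unfold Divisor.deg Finsupp.sum
        exact Finset.single_le_sum (f := fun P => D P * (P.deg : ℤ))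
          (fun i _ => mul_nonneg (h2 i) (Int.natCast_nonneg _)) hmem
      rwa [K663.AlgC.place_deg_one hE, Nat.cast_one, mul_one] at h1
    · rw [Finsupp.notMem_support_iff.1 hmem, h7]
      omega
  rw [Finsupp.add_apply, K669.MapDiv.div_apply hE] at h8
  have h9 : (0 : ℤ) ≤ Finsupp.single P₂ (1 : ℤ) P := by
    by_cases hQ : P = P₂
    · subst hQ; rw [Finsupp.single_eq_same]; omega
    · rw [Finsupp.single_eq_of_ne hQ]
  have h10 : P.ord s = 1 := by omega
  rw [val_eq_exp P hs0, h10]

/-- **Two branch points.** -/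
theorem main (hE : IsFunctionField k E) (hK : IsFunctionField k K) (hg : genus k E = 0)
    {P₁ P₂ : Place k E} (h12 : P₁ ≠ P₂)
    (hunr : ∀ (Q : Place k K) (P : Place k E), IsOver Q P → P ≠ P₁ → P ≠ P₂ → ramIdx Q P = 1) :
    genus k K = 0 ∧ (∀ Q Q' : Place k K, IsOver Q P₁ → IsOver Q' P₁ → Q = Q') ∧
      (∀ Q Q' : Place k K, IsOver Q P₂ → IsOver Q' P₂ → Q = Q') := by
  classical
  obtain ⟨t, ht0, ht⟩ := exists_div_eq hE hg P₁ P₂
  have hord : ∀ Q, Q.ord t = (Finsupp.single P₁ (1 : ℤ) - Finsupp.single P₂ 1 : Divisor k E) Q := by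
    intro Q
    rw [← ht, K669.MapDiv.div_apply hE]
  set x : K := algebraMap E K t with hx
  have hx0 : x ≠ 0 := by rw [hx]; simpa using ht0
  -- expansions
  have hexp : ∀ Q : Place k K, ∃ φ : K →ₐ[k] LaurentSeries k, LocRes.IsExpansionAt Q.1 φ := by
    intro Q
    obtain ⟨s, hs⟩ := exists_unif Q
    obtain ⟨φ, hφ, -⟩ := K669.Expansion.exists_expansion hK Q s hs
    exact ⟨φ, hφ⟩
  choose Φ hΦ using hexp
  -- values of the order of `dx / x`
  have key1 : ∀ Q : Place k K, (IsOver Q P₁ ∨ IsOver Q P₂) →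
      LocRes.vDiff (Φ Q) x⁻¹ x = exp (1 : ℤ) ∧ LocRes.vDiff (Φ Q) 1 x ≠ 0 := by
    intro Q hQ
    obtain ⟨n, hn, hv⟩ : ∃ n : ℤ, n ≠ 0 ∧ Q.1 x = exp n := by
      rcases hQ with hQ | hQ
      · have h3 := ord_algebraMap hQ t
        rw [hord, Finsupp.sub_apply, Finsupp.single_eq_same, Finsupp.single_eq_of_ne h12] at h3
        have h4 := ramIdx_pos hQ
        refine ⟨-(Q.ord x), ?_, val_eq_exp Q hx0⟩
        rw [hx, h3]; omega
      · have h3 := ord_algebraMap hQ t
        rw [hord, Finsupp.sub_apply, Finsupp.single_eq_same, Finsupp.single_eq_of_ne h12.symm] at h3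
        have h4 := ramIdx_pos hQ
        refine ⟨-(Q.ord x), ?_, val_eq_exp Q hx0⟩
        rw [hx, h3]; omega
    have h5 : Valued.v (Φ Q x) = exp n := by rw [(hΦ Q).1, hv]
    have h6 : Valued.v (LocRes.D k (Φ Q x)) = exp (n + 1) :=
      K667.DiffOrd.v_D_eq h5 (by exact_mod_cast hn)
    constructor
    · rw [LocRes.vDiff, map_mul, h6, (hΦ Q).1, map_inv₀, hv, ← WithZero.exp_neg, ← WithZero.exp_add]
      congr 1
      ring
    · rw [LocRes.vDiff, map_mul, h6, map_one, map_one, one_mul]
      exact WithZero.exp_ne_zero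
  have hD : KaehlerDifferential.D k K x ≠ 0 := by
    intro h0
    obtain ⟨Q, hQ⟩ := K666.Ext.exists_over (K' := K) hE P₁
    apply (key1 Q (Or.inl hQ)).2
    have h1 : (1 : K) • KaehlerDifferential.D k K x = (0 : K) • KaehlerDifferential.D k K x := by
      rw [h0, smul_zero, smul_zero]
    have h2 := K669.DiffCalc.mul_D_congr (Φ Q) h1
    rw [LocRes.vDiff, h2, map_zero, zero_mul, map_zero]
  have hxi : x⁻¹ ≠ 0 := inv_ne_zero hx0
  let W := divDiff Φ x⁻¹ x
  have hW : ∀ Q, W Q = if IsOver Q P₁ ∨ IsOver Q P₂ then -1 else 0 := by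
    intro Q
    rw [K669.DivDiff.divDiff_apply hK Φ hΦ hxi hD]
    split_ifs with h
    · rw [LocRes.ordDiff, (key1 Q h).1, WithZero.log_exp]
    · push Not at h
      obtain ⟨P, hP⟩ := exists_below (K := E) Q
      have hP1 : P ≠ P₁ := by rintro rfl; exact h.1 hP
      have hP2 : P ≠ P₂ := by rintro rfl; exact h.2 hP
      have htP : P.ord t = 0 := by
        rw [hord, Finsupp.sub_apply, Finsupp.single_eq_of_ne hP1, Finsupp.single_eq_of_ne hP2, sub_zero]
      have htP1 : P.1 t = 1 := by rw [val_eq_exp P ht0, htP, neg_zero, exp_zero]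
      obtain ⟨c, hc⟩ := K663.AlgC.exists_const hE P htP1.le
      have h3 := ord_sub_eq_one hE h12 ht0 ht P c hc
      have h4 : Q.1 (x - algebraMap k K c) = exp (-1 : ℤ) := by
        rw [hx, IsScalarTower.algebraMap_apply k E K, ← map_sub, val_algebraMap hP,
          hunr Q P hP hP1 hP2, pow_one, h3]
      have h5 : KaehlerDifferential.D k K (x - algebraMap k K c) = KaehlerDifferential.D k K x := by
        rw [map_sub, Derivation.map_algebraMap, sub_zero]
      have h6 : LocRes.ordDiff (Φ Q) 1 x = 0 := by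
        rw [← K669.DiffCalc.ordDiff_one_of_val (Φ Q) (hΦ Q) h4]
        exact K669.DiffCalc.ordDiff_congr (Φ Q) (by rw [h5])
      have h7 := K669.DiffCalc.ordDiff_mul (K669.DivDiff.finrank_kaehler hK) Q (Φ Q) (hΦ Q) hxi
        one_ne_zero hD
      rw [mul_one, h6, add_zero] at h7
      rw [h7, Place.ord, map_inv₀, hx, val_algebraMap hP, htP1, one_pow, inv_one, WithZero.log_one,
        neg_zero]
  have hcan : IsCanonical k K W := by
    obtain ⟨ω, -, -, hω0, -, hω⟩ := Groth.Agent.S12581.result k K hK (K669.DivDiff.isGeometric hK)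
      (fun _ => k) Φ hΦ x⁻¹ x hxi hD
    exact ⟨ω, hω0, hω W (fun P => K669.DivDiff.divDiff_apply hK Φ hΦ hxi hD P)⟩
  have hdeg := (K660.Weil.deg_ell_of_isCanonical hK hcan).2
  -- the fibres
  have fin1 := K666.Ext.finite_over (K' := K) hE P₁
  have fin2 := K666.Ext.finite_over (K' := K) hE P₂
  obtain ⟨Q₁, hQ₁⟩ := K666.Ext.exists_over (K' := K) hE P₁
  obtain ⟨Q₂, hQ₂⟩ := K666.Ext.exists_over (K' := K) hE P₂
  have hS : W = -(∑ Q ∈ fin1.toFinset ∪ fin2.toFinset, Finsupp.single Q (1 : ℤ)) := by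
    ext Q
    rw [hW, Finsupp.neg_apply, Finsupp.finsetSum_apply]
    simp only [Finsupp.single_apply]
    rw [Finset.sum_ite_eq']
    simp only [Finset.mem_union, Set.Finite.mem_toFinset, Set.mem_setOf_eq]
    split_ifs <;> norm_num
  have hdisj : Disjoint fin1.toFinset fin2.toFinset := by
    rw [Finset.disjoint_left]
    intro Q h1 h2
    rw [Set.Finite.mem_toFinset] at h1 h2
    exact h12 (below_unique h1 h2)
  have hdeg2 : W.deg = -((fin1.toFinset.card : ℤ) + fin2.toFinset.card) := by
    rw [hS, K660.Compare.deg_neg, K663.AlgC.deg_sum_single hK, Finset.card_union_of_disjoint hdisj]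
    push_cast
    ring
  have hc1 : 1 ≤ fin1.toFinset.card := Finset.card_pos.2 ⟨Q₁, by simpa using hQ₁⟩
  have hc2 : 1 ≤ fin2.toFinset.card := Finset.card_pos.2 ⟨Q₂, by simpa using hQ₂⟩
  refine ⟨by omega, fun Q Q' h h' => ?_, fun Q Q' h h' => ?_⟩
  · exact Finset.card_le_one.1 (by omega : fin1.toFinset.card ≤ 1) Q (by simpa using h) Q'
      (by simpa using h')
  · exact Finset.card_le_one.1 (by omega : fin2.toFinset.card ≤ 1) Q (by simpa using h) Q'
      (by simpa using h')

end Groth.Agent.K385.TwoPts
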